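import Mathlib
import Groth.Prelude.Def_HopfRep
import Groth.Prelude.Def_ComodDual
import Groth.Agent.Lib.Helper4.ConvHopf

/-!
The contragredient comodule of a finite projective comodule over a commutative Hopf algebra.
-/

set_option autoImplicit false

namespace Groth.Agent.Helper2.TameTrace

open TensorProduct

universe u v w

variable {k : Type u} [CommRing k] {A : Type v} [CommRing A] [HopfAlgebra k A]
  {V : Type w} [AddCommGroup V] [Module k V]

/-- `f ↦ dualCoactFun c f`, linear in `f`. -/
noncomputable def dualD (c : HopfRep.Comod k A V) : Module.Dual k V →ₗ[k] V →ₗ[k] A where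
  toFun := ComodTens.dualCoactFun c
  map_add' := ComodTens.dualCoactFun_add c
  map_smul' := ComodTens.dualCoactFun_smul c

@[simp] lemma dualD_apply (c : HopfRep.Comod k A V) (f : Module.Dual k V) :
    dualD c f = ComodTens.dualCoactFun c f := rfl

/-- `ε ∘ (t as a map)` is `rid ((id ⊗ ε) t)`. -/
lemma rid_lTensor_counit (t : Module.Dual k V ⊗[k] A) :
    TensorProduct.rid k (Module.Dual k V)
        ((CoalgebraStruct.counit (R := k) (A := A)).lTensor (Module.Dual k V) t) =
      (CoalgebraStruct.counit (R := k) (A := A)) ∘ₗ dualTensorHom k V A t := by
  induction t using TensorProduct.induction_on with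
  | zero => simp
  | tmul φ a =>
    apply LinearMap.ext
    intro v
    simp [mul_comm]
  | add x y hx hy => simp only [map_add, hx, hy, LinearMap.comp_add]

lemma counit_lid_map (f : Module.Dual k V) (y : V ⊗[k] A) :
    CoalgebraStruct.counit (R := k) (A := A)
        (TensorProduct.lid k A
          (TensorProduct.map f (HopfAlgebraStruct.antipode (R := k) (A := A)) y)) =
      f (TensorProduct.rid k V ((CoalgebraStruct.counit (R := k) (A := A)).lTensor V y)) := by
  induction y using TensorProduct.induction_on with
  | zero => simp
  | tmul v a => simp [mul_comm]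
  | add x y hx hy => simp only [map_add, hx, hy]

lemma dualTensorHom_lTensor_comul (t : Module.Dual k V ⊗[k] A) (v : V) :
    dualTensorHom k V (A ⊗[k] A)
        ((CoalgebraStruct.comul (R := k) (A := A)).lTensor (Module.Dual k V) t) v =
      CoalgebraStruct.comul (R := k) (A := A) (dualTensorHom k V A t v) := by
  induction t using TensorProduct.induction_on with
  | zero => simp
  | tmul φ a => simp
  | add x y hx hy => simp only [map_add, hx, hy, LinearMap.add_apply]

lemma dualTensorHom_assoc_tmul (s : Module.Dual k V ⊗[k] A) (a : A) (v : V) :
    dualTensorHom k V (A ⊗[k] A) (TensorProduct.assoc k (Module.Dual k V) A A (s ⊗ₜ[k] a)) v =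
      dualTensorHom k V A s v ⊗ₜ[k] a := by
  induction s using TensorProduct.induction_on with
  | zero => simp
  | tmul φ a' => simp [TensorProduct.smul_tmul']
  | add x y hx hy => simp only [map_add, hx, hy, LinearMap.add_apply, TensorProduct.add_tmul]

/-- `Ψ₂ : v ⊗ z ↦ f v • τ((S ⊗ S) z)`. -/
noncomputable def psi2 (f : Module.Dual k V) : V ⊗[k] (A ⊗[k] A) →ₗ[k] A ⊗[k] A :=
  (TensorProduct.lid k (A ⊗[k] A)).toLinearMap ∘ₗ
    TensorProduct.map f ((TensorProduct.comm k A A).toLinearMap ∘ₗ
      TensorProduct.map (HopfAlgebraStruct.antipode (R := k) (A := A))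
        (HopfAlgebraStruct.antipode (R := k) (A := A)))

lemma comul_lid_map (f : Module.Dual k V) (y : V ⊗[k] A) :
    CoalgebraStruct.comul (R := k) (A := A)
        (TensorProduct.lid k A
          (TensorProduct.map f (HopfAlgebraStruct.antipode (R := k) (A := A)) y)) =
      psi2 f ((CoalgebraStruct.comul (R := k) (A := A)).lTensor V y) := by
  induction y using TensorProduct.induction_on with
  | zero => simp
  | tmul v a =>
    have h := LinearMap.congr_fun (Groth.Agent.Helper4.Conv.comul_comp_antipode (k := k) (A := A)) a
    simp only [LinearMap.comp_apply] at h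
    simp only [TensorProduct.map_tmul, TensorProduct.lid_tmul, map_smul, LinearMap.lTensor_tmul,
      psi2, LinearMap.comp_apply, LinearEquiv.coe_coe]
    rw [h]
    rfl
  | add x y hx hy => simp only [map_add, hx, hy]

lemma psi2_assoc (f : Module.Dual k V) (w : (V ⊗[k] A) ⊗[k] A) :
    psi2 f (TensorProduct.assoc k V A A w) =
      TensorProduct.comm k A A
        (TensorProduct.map ((TensorProduct.lid k A).toLinearMap ∘ₗ
            TensorProduct.map f (HopfAlgebraStruct.antipode (R := k) (A := A)))
          (HopfAlgebraStruct.antipode (R := k) (A := A)) w) := by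
  induction w using TensorProduct.induction_on with
  | zero => simp
  | tmul y a' =>
    induction y using TensorProduct.induction_on with
    | zero => simp
    | tmul v a => simp [psi2, TensorProduct.smul_tmul']
    | add x y hx hy => simp only [TensorProduct.add_tmul, map_add, hx, hy]
  | add x y hx hy => simp only [map_add, hx, hy]

variable [Module.Finite k V] [Module.Projective k V]

/-- the contragredient coaction -/
noncomputable def dualCoact (c : HopfRep.Comod k A V) :
    Module.Dual k V →ₗ[k] Module.Dual k V ⊗[k] A :=
  (LinearEquiv.ofBijective (dualTensorHom k V A) dualTensorHom_bijective).symm.toLinearMap ∘ₗ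
    dualD c

lemma dualTensorHom_dualCoact (c : HopfRep.Comod k A V) (f : Module.Dual k V) :
    dualTensorHom k V A (dualCoact c f) = ComodTens.dualCoactFun c f := by
  simp [dualCoact]

lemma dualTensorHom_assoc_rTensor (c : HopfRep.Comod k A V) (t : Module.Dual k V ⊗[k] A) (v : V) :
    dualTensorHom k V (A ⊗[k] A)
        (TensorProduct.assoc k (Module.Dual k V) A A ((dualCoact c).rTensor A t)) v =
      TensorProduct.comm k A A
        (TensorProduct.map (dualTensorHom k V A t)
          (HopfAlgebraStruct.antipode (R := k) (A := A)) (c.coact v)) := by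
  induction t using TensorProduct.induction_on with
  | zero => simp
  | tmul φ a =>
    rw [LinearMap.rTensor_tmul, dualTensorHom_assoc_tmul, dualTensorHom_dualCoact,
      ComodTens.dualCoactFun_apply]
    generalize c.coact v = y
    induction y using TensorProduct.induction_on with
    | zero => simp
    | tmul v' a' => simp [TensorProduct.smul_tmul']
    | add x y hx hy => simp only [map_add, hx, hy, TensorProduct.add_tmul]
  | add x y hx hy =>
    simp only [map_add, hx, hy, LinearMap.add_apply, TensorProduct.map_add_left]

/-- the contragredient comodule of a finite projective comodule -/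
@[reducible] noncomputable def dualComod (c : HopfRep.Comod k A V) :
    HopfRep.Comod k A (Module.Dual k V) where
  coact := dualCoact c
  coassoc := by
    apply LinearMap.ext
    intro f
    apply (dualTensorHom_bijective (R := k) (M := V) (N := A ⊗[k] A)).1
    apply LinearMap.ext
    intro v
    simp only [LinearMap.comp_apply, LinearEquiv.coe_coe]
    rw [dualTensorHom_assoc_rTensor, dualTensorHom_lTensor_comul, dualTensorHom_dualCoact,
      ComodTens.dualCoactFun_apply, comul_lid_map]
    have h := LinearMap.congr_fun c.coassoc v
    simp only [LinearMap.comp_apply, LinearEquiv.coe_coe] at h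
    rw [← h, psi2_assoc]
    congr 1
    have h2 : ComodTens.dualCoactFun c f =
        ((TensorProduct.lid k A).toLinearMap ∘ₗ
            TensorProduct.map f (HopfAlgebraStruct.antipode (R := k) (A := A))) ∘ₗ c.coact := rfl
    rw [h2]
    generalize c.coact v = y
    induction y using TensorProduct.induction_on with
    | zero => simp
    | tmul v' a' => simp
    | add x y hx hy => simp only [map_add, hx, hy]
  counit_comp := by
    apply LinearMap.ext
    intro f
    apply (TensorProduct.rid k (Module.Dual k V)).injective
    simp only [LinearMap.comp_apply]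
    rw [rid_lTensor_counit, dualTensorHom_dualCoact]
    apply LinearMap.ext
    intro v
    simp only [LinearMap.comp_apply, ComodTens.dualCoactFun_apply, counit_lid_map]
    have h := LinearMap.congr_fun c.counit_comp v
    simp only [LinearMap.comp_apply] at h
    rw [h]
    simp

theorem isDual_dualComod (c : HopfRep.Comod k A V) : ComodTens.Comod.IsDual c (dualComod c) :=
  fun f => dualTensorHom_dualCoact c f

theorem exists_isDual (c : HopfRep.Comod k A V) :
    ∃ d : HopfRep.Comod k A (Module.Dual k V), ComodTens.Comod.IsDual c d :=
  ⟨dualComod c, isDual_dualComod c⟩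

end Groth.Agent.Helper2.TameTrace
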