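import Mathlib
import Groth.Prelude.Def_ComodSub
import Groth.Agent.Lib.Helper9.DualTensorFlat

/-!
The left dual comodule of a finitely presented comodule over a flat coalgebra.
-/

set_option autoImplicit false

namespace Groth.Agent.Helper2.LDual

open TensorProduct ComodSub

universe u v w

variable {k : Type u} [CommRing k] {A : Type v} [AddCommGroup A] [Module k A] [Coalgebra k A]
  {M : Type w} [AddCommGroup M] [Module k M]

/-- `g ↦ ldualFun c g`, linear in `g`. -/
noncomputable def ldualL (c : HopfRep.Comod k A M) : Module.Dual k M →ₗ[k] M →ₗ[k] A where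
  toFun := ldualFun c
  map_add' g g' := by
    apply LinearMap.ext
    intro m
    simp only [ldualFun_apply, LinearMap.rTensor_add, LinearMap.add_apply, map_add]
  map_smul' r g := by
    apply LinearMap.ext
    intro m
    simp only [ldualFun_apply, LinearMap.rTensor_smul, LinearMap.smul_apply, map_smul,
      RingHom.id_apply]

/-- reading `A ⊗ (A ⊗ M^*)` as maps `M → A ⊗ A` -/
noncomputable def xi : A ⊗[k] (A ⊗[k] Module.Dual k M) →ₗ[k] M →ₗ[k] A ⊗[k] A :=
  dualTensorHom k M (A ⊗[k] A) ∘ₗ
    (TensorProduct.comm k (A ⊗[k] A) (Module.Dual k M)).toLinearMap ∘ₗ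
    (TensorProduct.assoc k A A (Module.Dual k M)).symm.toLinearMap

@[simp] lemma xi_tmul (a a' : A) (φ : Module.Dual k M) (m : M) :
    xi (a ⊗ₜ[k] (a' ⊗ₜ[k] φ)) m = φ m • (a ⊗ₜ[k] a') := by
  simp [xi]

lemma xi_assoc_rTensor_comul (t : A ⊗[k] Module.Dual k M) (m : M) :
    xi (TensorProduct.assoc k A A (Module.Dual k M)
        ((CoalgebraStruct.comul (R := k) (A := A)).rTensor (Module.Dual k M) t)) m =
      CoalgebraStruct.comul (R := k) (A := A)
        (dualTensorHom k M A (TensorProduct.comm k A (Module.Dual k M) t) m) := by
  induction t using TensorProduct.induction_on with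
  | zero => simp
  | tmul a φ =>
    simp only [LinearMap.rTensor_tmul, TensorProduct.comm_tmul, dualTensorHom_apply, map_smul]
    generalize CoalgebraStruct.comul (R := k) a = z
    induction z using TensorProduct.induction_on with
    | zero => simp
    | tmul x y => simp
    | add x y hx hy => simp only [TensorProduct.add_tmul, map_add, LinearMap.add_apply, hx, hy,
        smul_add]
  | add x y hx hy => simp only [map_add, LinearMap.add_apply, hx, hy]

lemma xi_tmul' (a : A) (s : A ⊗[k] Module.Dual k M) (m : M) :
    xi (a ⊗ₜ[k] s) m =
      a ⊗ₜ[k] dualTensorHom k M A (TensorProduct.comm k A (Module.Dual k M) s) m := by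
  induction s using TensorProduct.induction_on with
  | zero => simp
  | tmul a' φ => simp [TensorProduct.tmul_smul]
  | add x y hx hy => simp only [TensorProduct.tmul_add, map_add, LinearMap.add_apply, hx, hy]

lemma lid_rTensor_counit (t : A ⊗[k] Module.Dual k M) :
    TensorProduct.lid k (Module.Dual k M)
        ((CoalgebraStruct.counit (R := k) (A := A)).rTensor (Module.Dual k M) t) =
      (CoalgebraStruct.counit (R := k) (A := A)) ∘ₗ
        dualTensorHom k M A (TensorProduct.comm k A (Module.Dual k M) t) := by
  induction t using TensorProduct.induction_on with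
  | zero => simp
  | tmul a φ =>
    apply LinearMap.ext
    intro m
    simp [mul_comm]
  | add x y hx hy => simp only [map_add, hx, hy, LinearMap.comp_add]

lemma counit_lid_rTensor (g : Module.Dual k M) (y : M ⊗[k] A) :
    CoalgebraStruct.counit (R := k) (A := A) (TensorProduct.lid k A (g.rTensor A y)) =
      g (TensorProduct.rid k M ((CoalgebraStruct.counit (R := k) (A := A)).lTensor M y)) := by
  induction y using TensorProduct.induction_on with
  | zero => simp
  | tmul v a => simp [mul_comm]
  | add x y hx hy => simp only [map_add, hx, hy]

lemma comul_lid_rTensor (g : Module.Dual k M) (y : M ⊗[k] A) :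
    CoalgebraStruct.comul (R := k) (A := A) (TensorProduct.lid k A (g.rTensor A y)) =
      TensorProduct.lid k (A ⊗[k] A) (g.rTensor (A ⊗[k] A)
        ((CoalgebraStruct.comul (R := k) (A := A)).lTensor M y)) := by
  induction y using TensorProduct.induction_on with
  | zero => simp
  | tmul v a => simp
  | add x y hx hy => simp only [map_add, hx, hy]

lemma lid_rTensor_assoc (g : Module.Dual k M) (w : (M ⊗[k] A) ⊗[k] A) :
    TensorProduct.lid k (A ⊗[k] A) (g.rTensor (A ⊗[k] A) (TensorProduct.assoc k M A A w)) =
      ((TensorProduct.lid k A).toLinearMap ∘ₗ g.rTensor A).rTensor A w := by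
  induction w using TensorProduct.induction_on with
  | zero => simp
  | tmul y a' =>
    induction y using TensorProduct.induction_on with
    | zero => simp
    | tmul v a => simp [TensorProduct.smul_tmul']
    | add x y hx hy => simp only [TensorProduct.add_tmul, map_add, hx, hy]
  | add x y hx hy => simp only [map_add, hx, hy]

variable [Module.Flat k A] [Module.FinitePresentation k M]

lemma xi_injective : Function.Injective (xi (k := k) (A := A) (M := M)) := by
  have h1 : Function.Injective (dualTensorHom k M (A ⊗[k] A)) :=
    (Groth.Agent.Helper9.dualTensorHom_bijective_of_fp_flat k M (A ⊗[k] A)).1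
  intro x y hxy
  simp only [xi, LinearMap.comp_apply, LinearEquiv.coe_coe] at hxy
  have h2 := h1 hxy
  exact (TensorProduct.assoc k A A (Module.Dual k M)).symm.injective
    ((TensorProduct.comm k (A ⊗[k] A) (Module.Dual k M)).injective h2)

/-- the left dual coaction -/
noncomputable def lcoact (c : HopfRep.Comod k A M) :
    Module.Dual k M →ₗ[k] A ⊗[k] Module.Dual k M :=
  (TensorProduct.comm k A (Module.Dual k M)).symm.toLinearMap ∘ₗ
    (LinearEquiv.ofBijective (dualTensorHom k M A)
      (Groth.Agent.Helper9.dualTensorHom_bijective_of_fp_flat k M A)).symm.toLinearMap ∘ₗ ldualL c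

lemma dualTensorHom_comm_lcoact (c : HopfRep.Comod k A M) (g : Module.Dual k M) :
    dualTensorHom k M A (TensorProduct.comm k A (Module.Dual k M) (lcoact c g)) =
      ldualFun c g := by
  have := (LinearEquiv.ofBijective (dualTensorHom k M A)
      (Groth.Agent.Helper9.dualTensorHom_bijective_of_fp_flat k M A)).apply_symm_apply
    (ldualL c g)
  simp only [lcoact, LinearMap.comp_apply, LinearEquiv.coe_coe, LinearEquiv.apply_symm_apply]
  exact this

/-- the left dual comodule -/
@[reducible] noncomputable def ldualComod (c : HopfRep.Comod k A M) :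
    LComod k A (Module.Dual k M) where
  coact := lcoact c
  coassoc := by
    apply LinearMap.ext
    intro g
    apply xi_injective
    apply LinearMap.ext
    intro m
    simp only [LinearMap.comp_apply, LinearEquiv.coe_coe]
    rw [xi_assoc_rTensor_comul, dualTensorHom_comm_lcoact, ldualFun_apply, comul_lid_rTensor]
    have h := LinearMap.congr_fun c.coassoc m
    simp only [LinearMap.comp_apply, LinearEquiv.coe_coe] at h
    rw [← h, lid_rTensor_assoc]
    -- left side
    have hL : ∀ t : A ⊗[k] Module.Dual k M,
        xi ((lcoact c).lTensor A t) m =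
          (dualTensorHom k M A (TensorProduct.comm k A (Module.Dual k M) t)).rTensor A
            (c.coact m) := by
      intro t
      induction t using TensorProduct.induction_on with
      | zero => simp
      | tmul a φ =>
        rw [LinearMap.lTensor_tmul, xi_tmul', dualTensorHom_comm_lcoact, ldualFun_apply]
        generalize c.coact m = y
        induction y using TensorProduct.induction_on with
        | zero => simp
        | tmul v a' => simp [TensorProduct.smul_tmul', TensorProduct.tmul_smul]
        | add x y hx hy => simp only [map_add, hx, hy, TensorProduct.tmul_add]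
      | add x y hx hy =>
        simp only [map_add, LinearMap.add_apply, hx, hy, LinearMap.rTensor_add]
    rw [hL, dualTensorHom_comm_lcoact]
    have h2 : ldualFun c g =
        ((TensorProduct.lid k A).toLinearMap ∘ₗ g.rTensor A) ∘ₗ c.coact := rfl
    rw [h2, LinearMap.rTensor_comp, LinearMap.comp_apply]
  counit_comp := by
    apply LinearMap.ext
    intro g
    apply (TensorProduct.lid k (Module.Dual k M)).injective
    simp only [LinearMap.comp_apply]
    rw [lid_rTensor_counit, dualTensorHom_comm_lcoact]
    apply LinearMap.ext
    intro m
    simp only [LinearMap.comp_apply, ldualFun_apply, counit_lid_rTensor]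
    have h := LinearMap.congr_fun c.counit_comp m
    simp only [LinearMap.comp_apply] at h
    rw [h]
    simp

theorem exists_isLDual (c : HopfRep.Comod k A M) :
    ∃ l : LComod k A (Module.Dual k M), LComod.IsLDual c l :=
  ⟨ldualComod c, fun g => dualTensorHom_comm_lcoact c g⟩

end Groth.Agent.Helper2.LDual
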