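import Mathlib
import Groth.Prelude.Def_W4c1tameactTame
import Groth.Prelude.Def_ComodTens
import Groth.Agent.Lib.Helper9.HomComod2
import Groth.Agent.Lib.Helper2.TameTrace.DualProj

/-!
Exactness of invariants on `(B, A)`-modules gives a total integral (finite projective `A`).
-/

set_option autoImplicit false

namespace Groth.Agent.Helper2.TameTrace

open TensorProduct Groth.Agent.Helper9.HomComod

universe u v w

section HopfMods

variable {k : Type u} [CommRing k] {A : Type v} [CommRing A] [HopfAlgebra k A]
  {B : Type w} [CommRing B] [Algebra k B]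

lemma hmSMul_self (z z' : B ⊗[k] A) : TameAct.hmSMul k A B B z z' = z * z' := by
  induction z using TensorProduct.induction_on with
  | zero => simp
  | tmul b a =>
    induction z' using TensorProduct.induction_on with
    | zero => simp
    | tmul b' a' => simp
    | add x y hx hy => simp only [map_add, mul_add, hx, hy]
  | add x y hx hy => simp only [map_add, LinearMap.add_apply, add_mul, hx, hy]

lemma hmSMul_tensor (z z' : B ⊗[k] A) (w : Module.Dual k A ⊗[k] A) :
    TensorProduct.map LinearMap.id (LinearMap.mul' k A)
        (AlgebraTensorModule.tensorTensorTensorComm k k k k B A (Module.Dual k A) A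
          ((z * z') ⊗ₜ[k] w)) =
      TameAct.hmSMul k A B (B ⊗[k] Module.Dual k A) z
        (TensorProduct.map LinearMap.id (LinearMap.mul' k A)
          (AlgebraTensorModule.tensorTensorTensorComm k k k k B A (Module.Dual k A) A
            (z' ⊗ₜ[k] w))) := by
  induction z using TensorProduct.induction_on with
  | zero => simp
  | tmul b a =>
    induction z' using TensorProduct.induction_on with
    | zero => simp
    | tmul b' a' =>
      induction w using TensorProduct.induction_on with
      | zero => simp
      | tmul φ a'' => simp [TensorProduct.smul_tmul', mul_assoc]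
      | add x y hx hy => simp only [TensorProduct.tmul_add, map_add, hx, hy]
    | add x y hx hy => simp only [mul_add, TensorProduct.add_tmul, map_add, hx, hy]
  | add x y hx hy =>
    simp only [add_mul, TensorProduct.add_tmul, map_add, LinearMap.add_apply, hx, hy]

variable [HopfRep.Comod k A B] [GLin.IsCoactAlg k A B]

theorem isHopfMod_self : TameAct.IsHopfMod k A B B where
  coact_smul b m := by
    rw [smul_eq_mul, GLin.IsCoactAlg.coact_mul, hmSMul_self]

theorem isHopfMod_tensor (d : HopfRep.Comod k A (Module.Dual k A)) :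
    @TameAct.IsHopfMod k _ A _ _ B _ _ (B ⊗[k] Module.Dual k A) _ _ _ _ _
      (ComodTens.Comod.tensor (inferInstance : HopfRep.Comod k A B) d) := by
  letI : HopfRep.Comod k A (B ⊗[k] Module.Dual k A) :=
    ComodTens.Comod.tensor (inferInstance : HopfRep.Comod k A B) d
  refine ⟨fun b x => ?_⟩
  induction x using TensorProduct.induction_on with
  | zero => simp
  | tmul b' φ =>
    rw [TensorProduct.smul_tmul', smul_eq_mul]
    change (ComodTens.Comod.tensor (inferInstance : HopfRep.Comod k A B) d).coact
        ((b * b') ⊗ₜ[k] φ) = TameAct.hmSMul k A B (B ⊗[k] Module.Dual k A)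
          (HopfRep.Comod.coact (k := k) (A := A) b)
          ((ComodTens.Comod.tensor (inferInstance : HopfRep.Comod k A B) d).coact (b' ⊗ₜ[k] φ))
    rw [ComodTens.tensor_coact_tmul, ComodTens.tensor_coact_tmul]
    have h : (inferInstance : HopfRep.Comod k A B).coact (b * b') =
        HopfRep.Comod.coact (k := k) (A := A) b * HopfRep.Comod.coact (k := k) (A := A) b' :=
      GLin.IsCoactAlg.coact_mul b b'
    rw [h, hmSMul_tensor]
  | add x y hx hy =>
    rw [smul_add, map_add, hx, hy, map_add, map_add]

/-- evaluation at `1 : A`, as a `B`-linear map -/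
noncomputable def evOne : B ⊗[k] Module.Dual k A →ₗ[B] B :=
  (TensorProduct.AlgebraTensorModule.rid k B B).toLinearMap ∘ₗ
    TensorProduct.AlgebraTensorModule.map (LinearMap.id : B →ₗ[B] B)
      (LinearMap.applyₗ (1 : A) : Module.Dual k A →ₗ[k] k)

omit [HopfRep.Comod k A B] [GLin.IsCoactAlg k A B] in
@[simp] lemma evOne_tmul (b : B) (φ : Module.Dual k A) :
    evOne (k := k) (A := A) (b ⊗ₜ[k] φ) = φ 1 • b := by
  simp [evOne]

end HopfMods

section MainThm

variable {k : Type u} [CommRing k] {A : Type u} [CommRing A] [HopfAlgebra k A]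
  [Module.Finite k A] [Module.Projective k A]
  {B : Type u} [CommRing B] [Algebra k B] [HopfRep.Comod k A B] [GLin.IsCoactAlg k A B]

theorem exists_total_integral
    (hexact : ∀ (M N : Type u) [AddCommGroup M] [Module k M] [Module B M] [IsScalarTower k B M]
      [HopfRep.Comod k A M] [TameAct.IsHopfMod k A B M]
      [AddCommGroup N] [Module k N] [Module B N] [IsScalarTower k B N]
      [HopfRep.Comod k A N] [TameAct.IsHopfMod k A B N] (f : M →ₗ[B] N),
      Hoch.IsComodHom A (f.restrictScalars k) → Function.Surjective f →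
      ∀ n ∈ HopfRep.fixedPts k A N, ∃ m ∈ HopfRep.fixedPts k A M, f m = n) :
    ∃ α : A →ₗ[k] B, Hoch.IsComodHom A α ∧ α 1 = 1 := by
  obtain ⟨d, hd⟩ := exists_isDual (HopfRep.Comod.regular k A)
  let cB : HopfRep.Comod k A B := inferInstance
  letI cM : HopfRep.Comod k A (B ⊗[k] Module.Dual k A) := ComodTens.Comod.tensor cB d
  haveI hM : TameAct.IsHopfMod k A B (B ⊗[k] Module.Dual k A) := isHopfMod_tensor d
  haveI hN : TameAct.IsHopfMod k A B B := isHopfMod_self
  have hres : (evOne (k := k) (A := A) (B := B)).restrictScalars k = evalAt k B (1 : A) := by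
    apply TensorProduct.ext'
    intro b φ
    simp
  have hev : ∀ x : B ⊗[k] Module.Dual k A,
      cB.coact (evalAt k B (1 : A) x) = (evalAt k B (1 : A)).rTensor A (cM.coact x) := by
    intro x
    rw [evalAt_tensor_coact (HopfRep.Comod.regular k A) cB d hd]
    simp only [Groth.Agent.Helper9.HomComod.star, LinearMap.comp_apply]
    have h11 : (HopfRep.Comod.regular k A).coact (1 : A) = (1 : A) ⊗ₜ[k] (1 : A) := by
      change CoalgebraStruct.comul (R := k) (1 : A) = _
      rw [Bialgebra.comul_one]
      rfl
    rw [h11, TensorProduct.map_tmul, HopfAlgebra.antipode_one, rmul_tmul_one]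
    rfl
  have hf : Hoch.IsComodHom A ((evOne (k := k) (A := A) (B := B)).restrictScalars k) := by
    rw [hres]
    apply LinearMap.ext
    intro x
    exact hev x
  have hsurj : Function.Surjective (evOne (k := k) (A := A) (B := B)) := by
    intro b
    refine ⟨b ⊗ₜ[k] (CoalgebraStruct.counit (R := k) (A := A)), ?_⟩
    rw [evOne_tmul]
    simp
  have h1 : (1 : B) ∈ HopfRep.fixedPts k A B := by
    change HopfRep.Comod.coact (k := k) (A := A) (1 : B) = (1 : B) ⊗ₜ[k] (1 : A)
    rw [GLin.IsCoactAlg.coact_one (k := k) (A := A) (R := B), Algebra.TensorProduct.one_def]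
  obtain ⟨x, hx, hfx⟩ := hexact (B ⊗[k] Module.Dual k A) B evOne hf hsurj 1 h1
  refine ⟨ΦL k B A x, ?_, ?_⟩
  · have hx' : cM.coact x = x ⊗ₜ[k] (1 : A) := hx
    change cB.coact ∘ₗ ΦL k B A x = (ΦL k B A x).rTensor A ∘ₗ (HopfRep.Comod.regular k A).coact
    rw [comodHom_iff_star]
    apply LinearMap.ext
    intro m
    rw [← evalAt_tensor_coact (HopfRep.Comod.regular k A) cB d hd, hx', evalAt_tmul_one]
  · have h2 := LinearMap.congr_fun hres x
    rw [LinearMap.restrictScalars_apply, hfx] at h2
    exact h2.symm

end MainThm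

end Groth.Agent.Helper2.TameTrace
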